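import Mathlib

set_option autoImplicit false

namespace Cfsg.Agent.LangGL

open Polynomial Module

universe u v

/-- The polynomials of the recursion `P 0 = a₀ X^q`, `P (i+1) = (P i)^q + a_{i+1} X^q`. -/
noncomputable def recPoly {K : Type u} [Field K] (q : ℕ) (a : ℕ → K) : ℕ → K[X]
  | 0 => C (a 0) * X ^ q
  | i + 1 => recPoly q a i ^ q + C (a (i + 1)) * X ^ q

theorem recPoly_natDegree {K : Type u} [Field K] (q : ℕ) (hq : 2 ≤ q) (a : ℕ → K) :
    ∀ i : ℕ, (∃ j ≤ i, a j ≠ 0) → q ≤ (recPoly q a i).natDegree := by
  intro i
  induction i with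
  | zero =>
    rintro ⟨j, hj, hne⟩
    obtain rfl : j = 0 := by omega
    simp [recPoly, natDegree_C_mul_X_pow q (a 0) hne]
  | succ i ih =>
    intro h
    simp only [recPoly]
    have hle : (C (a (i + 1)) * X ^ q).natDegree ≤ q := natDegree_C_mul_X_pow_le _ _
    by_cases h' : ∃ j ≤ i, a j ≠ 0
    · have hd := ih h'
      have hlt : (C (a (i + 1)) * X ^ q).natDegree < (recPoly q a i ^ q).natDegree := by
        rw [natDegree_pow]
        calc (C (a (i + 1)) * X ^ q).natDegree ≤ q := hle
          _ < q * q := by nlinarith
          _ ≤ q * (recPoly q a i).natDegree := Nat.mul_le_mul_left q hd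
      rw [natDegree_add_eq_left_of_natDegree_lt hlt, natDegree_pow]
      calc q ≤ q * q := by nlinarith
        _ ≤ q * (recPoly q a i).natDegree := Nat.mul_le_mul_left q hd
    · push Not at h'
      have hz : ∀ k ≤ i, recPoly q a k = 0 := by
        intro k hk
        induction k with
        | zero => simp [recPoly, h' 0 hk]
        | succ k ihk =>
          simp only [recPoly]
          rw [ihk (by omega), h' (k + 1) hk]
          simp [show q ≠ 0 by omega]
      obtain ⟨j, hj, hne⟩ := h
      have hji : j = i + 1 := by
        rcases Nat.lt_or_ge j (i + 1) with hlt | hge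
        · exact absurd (h' j (by omega)) hne
        · omega
      subst hji
      rw [hz i le_rfl, zero_pow (by omega), zero_add, natDegree_C_mul_X_pow q _ hne]

theorem recPoly_dvd {K : Type u} [Field K] (q : ℕ) (hq : 1 ≤ q) (a : ℕ → K) (i : ℕ) :
    (X : K[X]) ^ q ∣ recPoly q a i := by
  induction i with
  | zero => simp [recPoly]
  | succ i ih =>
    simp only [recPoly]
    exact dvd_add (dvd_trans ih (dvd_pow_self _ (by omega))) (dvd_mul_left _ _)

variable {K : Type u} [Field K] [IsAlgClosed K] {σ : K →+* K}

theorem exists_fixed_ne_zero {V : Type v} [AddCommGroup V] [Module K V] [FiniteDimensional K V]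
    (q : ℕ) (hq : 2 ≤ q) (hσ : ∀ x : K, σ x = x ^ q) (φ : V →ₛₗ[σ] V)
    (hinj : Function.Injective φ) (v : V) (hv : v ≠ 0) : ∃ x : V, x ≠ 0 ∧ φ x = x := by
  classical
  let w : ℕ → V := fun i => φ^[i] v
  have hw : ∀ i, φ (w i) = w (i + 1) := fun i => (Function.iterate_succ_apply' φ i v).symm
  have hex : ∃ k : ℕ, w k ∈ Submodule.span K (Set.range fun i : Fin k => w i) := by
    by_contra hne
    push Not at hne
    have hli : ∀ k : ℕ, LinearIndependent K (fun i : Fin k => w i) := by
      intro k
      induction k with
      | zero => exact linearIndependent_empty_type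
      | succ k ih =>
        rw [linearIndependent_finSucc']
        exact ⟨ih, hne k⟩
    have := (hli (finrank K V + 1)).fintype_card_le_finrank
    simp at this
  let k := Nat.find hex
  have hk : w k ∈ Submodule.span K (Set.range fun i : Fin k => w i) := Nat.find_spec hex
  have hmin : ∀ j < k, w j ∉ Submodule.span K (Set.range fun i : Fin j => w i) :=
    fun j hj => Nat.find_min hex hj
  have hli : ∀ j ≤ k, LinearIndependent K (fun i : Fin j => w i) := by
    intro j
    induction j with
    | zero => intro _; exact linearIndependent_empty_type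
    | succ j ih =>
      intro hj
      rw [linearIndependent_finSucc']
      exact ⟨ih (by omega), hmin j (by omega)⟩
  have hinjk : Function.Injective (fun x : V => φ^[k] x) := hinj.iterate k
  have hwk : w k ≠ 0 := fun h => hv (hinjk (by
    show φ^[k] v = φ^[k] 0
    rw [iterate_map_zero]; exact h))
  rw [Submodule.mem_span_range_iff_exists_fun] at hk
  obtain ⟨a', ha'⟩ := hk
  let a : ℕ → K := fun i => if h : i < k then a' ⟨i, h⟩ else 0
  have ha : w k = ∑ i ∈ Finset.range k, a i • w i := by
    rw [← Fin.sum_univ_eq_sum_range (fun i => a i • w i) k, ← ha']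
    apply Finset.sum_congr rfl
    intro i _
    simp [a, i.isLt]
  obtain ⟨m, hm⟩ : ∃ m, k = m + 1 := by
    refine Nat.exists_eq_succ_of_ne_zero (fun h0 => ?_)
    rw [h0] at ha hwk
    simp at ha
    exact hwk ha
  have hane : ∃ j ≤ m, a j ≠ 0 := by
    by_contra hno
    push Not at hno
    apply hwk
    rw [ha]
    apply Finset.sum_eq_zero
    intro i hi
    rw [Finset.mem_range] at hi
    rw [hno i (by omega), zero_smul]
  let P := recPoly q a m
  have hPdeg : q ≤ P.natDegree := recPoly_natDegree q hq a m hane
  obtain ⟨R, hR⟩ : (X : K[X]) ∣ P - X :=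
    dvd_sub (dvd_trans (dvd_pow_self _ (by omega)) (recPoly_dvd q (by omega) a m)) dvd_rfl
  have hR0 : R.coeff 0 = -1 := by
    have h1 : (P - X).coeff 1 = -1 := by
      obtain ⟨S, hS⟩ := recPoly_dvd q (show 1 ≤ q by omega) a m
      show (P - X).coeff 1 = -1
      rw [coeff_sub, coeff_X_one, show P = X ^ q * S from hS, coeff_X_pow_mul', if_neg (by omega)]
      ring
    rw [hR, coeff_X_mul] at h1
    exact h1
  have hPX : (P - X).natDegree = P.natDegree :=
    natDegree_sub_eq_left_of_natDegree_lt (by rw [natDegree_X]; omega)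
  have hRdeg : R.degree ≠ 0 := by
    intro hd
    have hne : R ≠ 0 := fun h => by rw [h] at hR0; simp at hR0
    have h0 : R.natDegree = 0 := natDegree_eq_of_degree_eq_some hd
    have := natDegree_mul (X_ne_zero (R := K)) hne
    rw [← hR, hPX, h0, natDegree_X] at this
    omega
  obtain ⟨t, ht⟩ := IsAlgClosed.exists_root R hRdeg
  have ht0 : t ≠ 0 := by
    rintro rfl
    rw [IsRoot.def, ← coeff_zero_eq_eval_zero, hR0] at ht
    simp at ht
  have hPt : P.eval t = t := by
    have := congrArg (Polynomial.eval t) hR
    rw [eval_sub, eval_X, eval_mul, eval_X, IsRoot.def.mp ht, mul_zero, sub_eq_zero] at this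
    exact this
  let c : ℕ → K := fun i => (recPoly q a i).eval t
  refine ⟨∑ i ∈ Finset.range k, c i • w i, ?_, ?_⟩
  · intro hzero
    have := hli k le_rfl
    rw [Fintype.linearIndependent_iff] at this
    have h2 := this (fun i => c i) (by
      rw [Fin.sum_univ_eq_sum_range (fun i => c i • w i) k]; exact hzero) ⟨m, by omega⟩
    exact ht0 (hPt.symm.trans h2)
  · have hc0 : c 0 = t ^ q * a 0 := by simp [c, recPoly]; ring
    have hcs : ∀ i, c (i + 1) = c i ^ q + t ^ q * a (i + 1) := by
      intro i; simp [c, recPoly]; ring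
    rw [map_sum]
    simp only [LinearMap.map_smulₛₗ, hw, hσ]
    rw [hm, Finset.sum_range_succ _ m, show c m = t from hPt]
    rw [show w (m + 1) = ∑ i ∈ Finset.range (m + 1), a i • w i by rw [← hm]; exact ha,
      Finset.smul_sum]
    conv_rhs => rw [Finset.sum_range_succ' _ m, hc0]
    rw [Finset.sum_range_succ' (fun i => t ^ q • (a i • w i)) m]
    simp only [smul_smul]
    rw [← add_assoc, ← Finset.sum_add_distrib]
    congr 1
    apply Finset.sum_congr rfl
    intro i _
    rw [hcs i, add_smul]

/-- The fixed vectors of a bijective Frobenius-semilinear map span. -/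
theorem span_fixed_eq_top (q : ℕ) (hq : 2 ≤ q) (hσ : ∀ x : K, σ x = x ^ q) :
    ∀ (n : ℕ) (V : Type v) [AddCommGroup V] [Module K V] [FiniteDimensional K V]
      (φ : V →ₛₗ[σ] V), Function.Injective φ → finrank K V = n →
      Submodule.span K {x : V | φ x = x} = ⊤ := by
  intro n
  induction n using Nat.strong_induction_on with
  | _ n ih =>
    intro V _ _ _ φ hinj hn
    by_cases hV : ∀ v : V, v = 0
    · rw [eq_top_iff]
      intro v _
      rw [hV v]
      exact zero_mem _
    · push Not at hV
      obtain ⟨v, hv⟩ := hV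
      obtain ⟨e, he0, he⟩ := exists_fixed_ne_zero q hq hσ φ hinj v hv
      let L : Submodule K V := K ∙ e
      have hL : L ≤ L.comap φ := by
        intro x hx
        obtain ⟨c, rfl⟩ := Submodule.mem_span_singleton.mp hx
        rw [Submodule.mem_comap, LinearMap.map_smulₛₗ, he]
        exact Submodule.smul_mem _ _ (Submodule.mem_span_singleton_self e)
      let ψ : (V ⧸ L) →ₛₗ[σ] (V ⧸ L) := L.mapQ L φ hL
      have hψ : Function.Injective ψ := by
        rw [injective_iff_map_eq_zero]
        intro x hx
        obtain ⟨x, rfl⟩ := Submodule.Quotient.mk_surjective L x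
        rw [Submodule.mapQ_apply, Submodule.Quotient.mk_eq_zero, Submodule.mem_span_singleton] at hx
        obtain ⟨c, hc⟩ := hx
        obtain ⟨d, hd⟩ := IsAlgClosed.exists_pow_nat_eq c (show 0 < q by omega)
        have : x = d • e := hinj (by rw [LinearMap.map_smulₛₗ, he, hσ, hd, hc])
        rw [Submodule.Quotient.mk_eq_zero, this]
        exact Submodule.smul_mem _ _ (Submodule.mem_span_singleton_self e)
      have hlt : finrank K (V ⧸ L) < n := by
        rw [← hn]
        have := Submodule.finrank_quotient_add_finrank L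
        have h1 : finrank K L = 1 := finrank_span_singleton he0
        omega
      have hq' := ih _ hlt (V ⧸ L) ψ hψ rfl
      have heW : e ∈ Submodule.span K {x : V | φ x = x} := Submodule.subset_span he
      have hLW : L ≤ Submodule.span K {x : V | φ x = x} :=
        (Submodule.span_singleton_le_iff_mem _ _).mpr heW
      have hmap : Submodule.map L.mkQ (Submodule.span K {x : V | φ x = x}) = ⊤ := by
        rw [eq_top_iff, ← hq', Submodule.span_le]
        intro y hy
        obtain ⟨y, rfl⟩ := Submodule.Quotient.mk_surjective L y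
        simp only [Set.mem_ofPred_eq, ψ, Submodule.mapQ_apply] at hy
        rw [Submodule.Quotient.eq, Submodule.mem_span_singleton] at hy
        obtain ⟨c, hc⟩ := hy
        obtain ⟨x, hx⟩ := IsAlgClosed.exists_root (X ^ q - X + C c : K[X]) (by
          have : (X ^ q - X + C c : K[X]).natDegree = q := by
            rw [natDegree_add_C, natDegree_sub_eq_left_of_natDegree_lt (by simp; omega), natDegree_X_pow]
          intro hd
          have := natDegree_eq_zero_iff_degree_le_zero.mpr hd.le
          omega)
        simp at hx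
        refine Submodule.mem_map.mpr ⟨y + x • e, Submodule.subset_span ?_, ?_⟩
        · show φ (y + x • e) = y + x • e
          rw [map_add, LinearMap.map_smulₛₗ, he, hσ]
          have hφy : φ y = y + c • e := by rw [hc]; abel
          rw [hφy, add_assoc, ← add_smul]
          congr 2
          linear_combination hx
        · rw [map_add, Submodule.mkQ_apply, Submodule.mkQ_apply, add_eq_left,
            Submodule.Quotient.mk_eq_zero]
          exact Submodule.smul_mem _ _ (Submodule.mem_span_singleton_self e)
      rw [Submodule.map_mkQ_eq_top, sup_eq_right.mpr hLW] at hmap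
      exact hmap

/-- Lang–Steinberg for `GL_n`. -/
theorem lang (p : ℕ) [Fact p.Prime] [CharP K p]
    (f : ℕ) (hf : 1 ≤ f) (n : ℕ) (g : GL (Fin n) K) :
    ∃ x : GL (Fin n) K, g = x * (Matrix.GeneralLinearGroup.map (iterateFrobenius K p f) x)⁻¹ := by
  classical
  let σ' : K →+* K := iterateFrobenius K p f
  have hσ : ∀ x : K, σ' x = x ^ (p ^ f) := fun x => iterateFrobenius_def p f x
  have hq : 2 ≤ p ^ f := le_trans (Fact.out : p.Prime).two_le (Nat.le_self_pow (by omega) p)
  let φ : (Fin n → K) →ₛₗ[σ'] (Fin n → K) :=
    { toFun := fun v => (g : Matrix (Fin n) (Fin n) K).mulVec fun i => σ' (v i)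
      map_add' := by
        intro x y
        rw [← Matrix.mulVec_add]; congr 1; funext i; simp
      map_smul' := by
        intro c x
        rw [← Matrix.mulVec_smul]; congr 1; funext i; simp }
  have hinj : Function.Injective φ := by
    intro x y h
    have h2 := (Matrix.mulVec_injective_iff_isUnit.mpr g.isUnit) h
    funext i
    exact σ'.injective (congrFun h2 i)
  have hspan := span_fixed_eq_top (p ^ f) hq hσ _ (Fin n → K) φ hinj rfl
  obtain ⟨b, hb, hbspan, hbli⟩ := exists_linearIndependent K {x : Fin n → K | φ x = x}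
  rw [hspan] at hbspan
  let B : Module.Basis b K (Fin n → K) := Module.Basis.mk hbli (by rw [Subtype.range_coe]; exact hbspan.ge)
  let e : b ≃ Fin n := B.indexEquiv (Pi.basisFun K (Fin n))
  let v : Fin n → Fin n → K := fun j => ((e.symm j : b) : Fin n → K)
  have hvli : LinearIndependent K v := hbli.comp e.symm e.symm.injective
  let M : Matrix (Fin n) (Fin n) K := (Matrix.of v).transpose
  have hM : IsUnit M := by
    rw [← Matrix.linearIndependent_cols_iff_isUnit]
    exact hvli
  refine ⟨hM.unit, eq_mul_inv_of_mul_eq ?_⟩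
  apply Units.ext
  ext i j
  rw [Units.val_mul, IsUnit.unit_spec]
  have h2 : φ (v j) = v j := hb (e.symm j).2
  exact congrFun h2 i

end Cfsg.Agent.LangGL
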